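import Cfsg.Agent.SporRec.TwoSp6.Hom
import Cfsg.Agent.SporRec.TwoSp6.CInvol
import Cfsg.Agent.Schreier.ClassPSp
import Cfsg.Agent.S0270
import Cfsg.Prelude.Def_CaseTheorems

/-!
# Automorphisms of `Sp₆(2)` and of its double cover are inner

`M` is the model of `2·Sp₆(2)` (`SporRec/TwoSp6/Model`).
-/

set_option autoImplicit false
set_option Elab.async false

namespace Cfsg.Agent.KFacts.Co3.AutM

open Cfsg Cfsg.Agent.SporRec.TwoSp6.Cox Cfsg.Agent.SporRec.TwoSp6.Sp Cfsg.Agent.SporRec.TwoSp6.Lift
  Cfsg.Agent.SporRec.TwoSp6.Model Cfsg.Agent.SporRec.TwoSp6.Order Cfsg.Agent.SporRec.TwoSp6.CInvol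
open Cfsg.Agent.ClassicalGeometry.SympAutSemi

/-! ### the symplectic group -/

theorem tr_inj {u w : V} (h : tr u = tr w) : u = w := by
  have key : ∀ x : V, om x u • u = om x w • w := by
    intro x
    have h1 : act (tr u) x = act (tr w) x := by rw [h]
    rw [act_tr, act_tr] at h1
    exact add_left_cancel h1
  have aux : ∀ u w : V, (∀ x : V, om x u • u = om x w • w) → u ≠ 0 → u = w := by
    intro u w key hu
    obtain ⟨a, ha⟩ := exists_om_one hu
    have h1 := key a
    rw [om_symm a u, ha, one_smul] at h1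
    rcases om_cases a w with h2 | h2
    · rw [h2, zero_smul] at h1
      exact absurd h1 hu
    · rw [h2, one_smul] at h1
      exact h1
  by_cases hu : u = 0
  · by_cases hw : w = 0
    · rw [hu, hw]
    · exact (aux w u (fun x => (key x).symm) hw).symm
  · exact aux u w key hu

theorem center_S {g : S} (h : ∀ x : S, x * g = g * x) : g = 1 := by
  apply act_ext
  intro x
  rw [act_one]
  apply tr_inj
  rw [← conj_tr, ← h, mul_inv_cancel_right]

theorem center_bot : Subgroup.center S = ⊥ := by
  rw [eq_bot_iff]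
  intro g hg
  rw [Subgroup.mem_bot]
  exact center_S fun x => Subgroup.mem_center_iff.1 hg x

/-- the isomorphism with the projective symplectic group -/
noncomputable def ePSp : S ≃* PSp 3 (ZMod 2) :=
  MulEquiv.ofBijective (QuotientGroup.mk' (Subgroup.center S))
    ⟨by rw [← MonoidHom.ker_eq_bot_iff, QuotientGroup.ker_mk', center_bot], QuotientGroup.mk'_surjective _⟩

theorem simple_S : IsSimpleGroup S := by
  have : IsSimpleGroup (PSp 3 (ZMod 2)) := Cfsg.Agent.S0270.result 3 (by norm_num) (by norm_num)
  exact ePSp.isSimpleGroup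

/-- every automorphism of `PSp₆(2)` is inner -/
theorem aut_PSp (α : MulAut (PSp 3 (ZMod 2))) :
    α ∈ (MulAut.conj : PSp 3 (ZMod 2) →* MulAut (PSp 3 (ZMod 2))).range := by
  obtain ⟨g, rfl⟩ := Cfsg.Agent.ClassicalGeometry.SympAutExists.exists_semi (F := ZMod 2) (m := 3) (by norm_num) α
    (Cfsg.Agent.ClassicalGeometry.SympAutOddA.recog (by norm_num) (Or.inl le_rfl) α)
  apply Cfsg.Agent.Schreier.ClassPSp.Psi_isom
  obtain ⟨φ, l, hl, hg⟩ := g.2
  have hφ : φ = RingEquiv.refl (ZMod 2) := Subsingleton.elim _ _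
  have h1 : l = 1 := by
    revert hl
    generalize l = a
    revert a; decide
  rw [hφ, h1] at hg
  exact hg

/-- every automorphism of `Sp₆(2)` is inner -/
theorem aut_S (α : S ≃* S) : ∃ g : S, ∀ x, α x = g * x * g⁻¹ := by
  let e : S ≃* PSp 3 (ZMod 2) := ePSp
  obtain ⟨y, hy⟩ := aut_PSp ((e.symm.trans α).trans e)
  refine ⟨e.symm y, fun x => ?_⟩
  have h1 := DFunLike.congr_fun hy (e x)
  rw [MulAut.conj_apply, MulEquiv.trans_apply, MulEquiv.trans_apply, MulEquiv.symm_apply_apply] at h1
  apply e.injective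
  rw [← h1, map_mul, map_mul, map_inv, MulEquiv.apply_symm_apply]

/-! ### the double cover -/

theorem pre_S : Cfsg.Agent.SporRec.TwoSp6.Hom.Pre (1 : S) (fun i => tr (v i)) where
  z_sq := one_mul 1
  sq i := tr_sq _
  comm i j h := by
    rw [one_mul]
    apply tr_comm
    rw [om_v', h]; rfl
  braid i j h := by
    apply tr_braid
    rw [om_v', h]; rfl
  cox := prod7_pow

theorem exists_pi : ∃ π : M →* S, (∀ i, π (gen i) = tr (v i)) ∧ Ext z π := by
  obtain ⟨π, h1, h2⟩ := Cfsg.Agent.SporRec.TwoSp6.Hom.exists_hom pre_S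
  refine ⟨π, h1, ?_⟩
  have fM : Finite M := Nat.finite_of_card_ne_zero (by rw [card_M]; norm_num)
  have hs : Function.Surjective π := by
    rw [← MonoidHom.range_eq_top, eq_top_iff, ← closure_v, Subgroup.closure_le]
    rintro _ ⟨i, rfl⟩
    exact ⟨gen i, h1 i⟩
  have hc : Nat.card π.ker * Nat.card S = Nat.card M := by
    have h3 := Subgroup.card_mul_index π.ker
    rwa [Subgroup.index_ker, MonoidHom.range_eq_top.2 hs, Subgroup.card_top] at h3
  rw [card_S, card_M] at hc
  have hk : Nat.card π.ker = 2 := by omega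
  refine ⟨hs, z_ne, z_sq, z_comm, ?_, h2⟩
  intro g hg
  have h3 : Nat.card (Subgroup.zpowers z) = 2 := card_zpowers z_ne z_sq
  have h4 : Subgroup.zpowers z = π.ker := by
    apply Subgroup.eq_of_le_of_card_ge
    · rw [Subgroup.zpowers_le]
      exact h2
    · rw [hk, h3]
  rw [← mem_zpowers z_sq, h4]
  exact hg

theorem center_M {x : M} (h : ∀ y : M, y * x = x * y) : x = 1 ∨ x = z := by
  obtain ⟨π, -, E⟩ := exists_pi
  apply E.ker
  apply center_S
  intro s
  obtain ⟨y, rfl⟩ := E.surj s
  rw [← map_mul, h, map_mul]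

theorem aut_z (β : M ≃* M) : β z = z := by
  rcases center_M (x := β z) (fun y => by
    obtain ⟨x, rfl⟩ := β.surjective y
    rw [← map_mul, ← map_mul, z_comm]) with h | h
  · exact absurd (β.injective (h.trans (map_one β).symm)) z_ne
  · exact h

theorem m7_symm : ∀ i j, m7 i j = 3 → m7 j i = 3 := by decide

theorem adj_trans (P : Fin 7 → Fin 7 → Prop) (_hs : ∀ i j, P i j → P j i) (ht : ∀ i j k, P i j → P j k → P i k)
    (h : ∀ i j, m7 i j = 3 → P i j) (hr : P 0 0) : ∀ i, P 0 i := by
  have h02 : P 0 2 := h 0 2 (by decide)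
  have h23 : P 2 3 := h 2 3 (by decide)
  have h31 : P 3 1 := h 3 1 (by decide)
  have h34 : P 3 4 := h 3 4 (by decide)
  have h45 : P 4 5 := h 4 5 (by decide)
  have h56 : P 5 6 := h 5 6 (by decide)
  have p3 := ht _ _ _ h02 h23
  have p4 := ht _ _ _ p3 h34
  have p5 := ht _ _ _ p4 h45
  intro i
  fin_cases i
  · exact hr
  · exact ht _ _ _ p3 h31
  · exact h02
  · exact p3
  · exact p4
  · exact p5
  · exact ht _ _ _ p5 h56

/-- an automorphism trivial modulo `z` is trivial -/
theorem aut_one {π : M →* S} (E : Ext z π) {β : M ≃* M} (h : ∀ x, π (β x) = π x) : ∀ x, β x = x := by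
  -- signs
  have hs : ∀ i, β (gen i) = gen i ∨ β (gen i) = z * gen i := fun i => E.eq_or (h (gen i)).symm
  have hadj : ∀ i j, m7 i j = 3 → (β (gen i) = gen i → β (gen j) = gen j) := by
    intro i j hij hi
    rcases hs j with hj | hj
    · exact hj
    · exfalso
      have h1 := congrArg β (rels.braid i j hij)
      simp only [map_mul, hi, hj] at h1
      -- g_i (z g_j) g_i = (z g_j) g_i (z g_j)
      have e1 : gen i * (z * gen j) * gen i = z * (gen i * gen j * gen i) := by
        rw [← mul_assoc (gen i), ← z_comm]; simp only [mul_assoc]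
      have e2 : z * gen j * gen i * (z * gen j) = z * (z * (gen j * gen i * gen j)) := by
        have e3 : z * gen j * gen i * (z * gen j) = z * ((gen j * gen i * z) * gen j) := by simp only [mul_assoc]
        rw [e3, ← z_comm (gen j * gen i)]
        simp only [mul_assoc]
      rw [e1, e2, rels.braid i j hij] at h1
      have h2 := mul_left_cancel h1
      have h3 : (1 : M) * (gen j * gen i * gen j) = z * (gen j * gen i * gen j) := by rw [one_mul]; exact h2
      exact z_ne (mul_right_cancel h3).symm
  have hneg : ∀ i j, m7 i j = 3 → (β (gen i) = z * gen i → β (gen j) = z * gen j) := by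
    intro i j hij hi
    rcases hs j with hj | hj
    · exfalso
      have h1 := hadj j i (m7_symm i j hij) hj
      rw [h1] at hi
      have h3 : (1 : M) * gen i = z * gen i := by rw [one_mul]; exact hi
      exact z_ne (mul_right_cancel h3).symm
    · exact hj
  have hall : ∀ i, β (gen i) = gen i := by
    rcases hs 0 with h0 | h0
    · have := adj_trans (fun i j => (β (gen i) = gen i ↔ β (gen j) = gen j)) (fun i j h => h.symm)
        (fun i j k h1 h2 => h1.trans h2)
        (fun i j hij => ⟨hadj i j hij, hadj j i (m7_symm i j hij)⟩) Iff.rfl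
      intro i
      exact (this i).1 h0
    · exfalso
      have h1 := adj_trans (fun i j => (β (gen i) = z * gen i ↔ β (gen j) = z * gen j)) (fun i j h => h.symm)
        (fun i j k h1 h2 => h1.trans h2)
        (fun i j hij => ⟨hneg i j hij, hneg j i (m7_symm i j hij)⟩) Iff.rfl
      have h2 : ∀ i, β (gen i) = z * gen i := fun i => (h1 i).1 h0
      have hc : ∀ x : M, Commute z x := fun x => z_comm x
      have h3 : prod7 (fun i => z * gen i) = z * prod7 gen := by
        have hz7 : z ^ 7 = z := by
          rw [show (7 : ℕ) = 2 * 3 + 1 from rfl, pow_succ, pow_mul, pow_two, z_sq, one_pow, one_mul]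
        have key : ∀ a b c d e f g : M, (z * a) * (z * b) * (z * c) * (z * d) * (z * e) * (z * f) * (z * g) =
            z ^ 7 * (a * b * c * d * e * f * g) := by
          intro a b c d e f g
          have hm : ∀ (p q : M) (n : ℕ), (z ^ n * p) * (z * q) = z ^ (n + 1) * (p * q) := by
            intro p q n
            rw [pow_succ, mul_assoc, mul_assoc, ← mul_assoc p, ← mul_assoc z, (hc p).eq]
          have h := hm a b 1
          rw [pow_one] at h
          rw [h, hm, hm, hm, hm, hm]
        have := key (gen 0) (gen 1) (gen 2) (gen 3) (gen 4) (gen 5) (gen 6)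
        rw [hz7] at this
        unfold prod7
        simpa only [mul_assoc] using this
      have h4 : prod7 (fun i => β (gen i)) = β (prod7 gen) := by
        have := map_prod7 (β : M →* M) gen
        exact this.symm
      have h5 : β (prod7 gen) ^ 9 = 1 := by rw [← map_pow, rels.cox, map_one]
      rw [← h4] at h5
      simp only [h2] at h5
      rw [h3, (hc _).mul_pow, rels.cox, mul_one] at h5
      have h6 : z ^ 9 = z := by
        rw [show (9 : ℕ) = 2 * 4 + 1 from rfl, pow_succ, pow_mul, pow_two, z_sq, one_pow, one_mul]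
      rw [h6] at h5
      exact z_ne h5
  intro x
  have : (β : M →* M) = MonoidHom.id M := by
    apply MonoidHom.eq_of_eqOn_dense closure_gen
    rintro _ ⟨i, rfl⟩
    exact hall i
  exact DFunLike.congr_fun this x

/-- **every automorphism of the double cover is inner** -/
theorem aut_M (β : M ≃* M) : ∃ g : M, ∀ x, β x = g * x * g⁻¹ := by
  obtain ⟨π, -, E⟩ := exists_pi
  have fM : Finite M := Nat.finite_of_card_ne_zero (by rw [card_M]; norm_num)
  have fS : Finite S := Nat.finite_of_card_ne_zero (by rw [card_S]; norm_num)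
  let f : M →* S := π.comp (β : M →* M)
  have hk : π.ker ≤ f.ker := by
    intro x hx
    rw [MonoidHom.mem_ker] at hx ⊢
    show π (β x) = 1
    rcases E.ker x hx with rfl | rfl
    · rw [map_one, map_one]
    · rw [aut_z, E.map_z]
  let b : S →* S := π.liftOfSurjective E.surj ⟨f, hk⟩
  have hb : ∀ x, b (π x) = π (β x) := fun x => π.liftOfRightInverse_comp_apply _ _ ⟨f, hk⟩ x
  have hbs : Function.Surjective b := by
    intro s
    obtain ⟨y, rfl⟩ := E.surj s
    obtain ⟨x, rfl⟩ := β.surjective y
    exact ⟨π x, hb x⟩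
  have hbb : Function.Bijective b := (Nat.bijective_iff_surjective_and_card b).2 ⟨hbs, rfl⟩
  obtain ⟨g, hg⟩ := aut_S (MulEquiv.ofBijective b hbb)
  obtain ⟨γ, rfl⟩ := E.surj g
  let β' : M ≃* M := β.trans (MulAut.conj γ⁻¹)
  have hβ' : ∀ x, β' x = γ⁻¹ * β x * γ := by
    intro x
    show MulAut.conj γ⁻¹ (β x) = _
    rw [MulAut.conj_apply, inv_inv]
  have h1 : ∀ x, π (β' x) = π x := by
    intro x
    have h2 : b (π x) = π γ * π x * (π γ)⁻¹ := hg (π x)
    rw [hβ', map_mul, map_mul, ← hb, h2, map_inv]
    group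
  have h2 := aut_one E h1
  refine ⟨γ, fun x => ?_⟩
  have h3 := h2 x
  rw [hβ'] at h3
  conv_rhs => rw [← h3]
  group

/-! ### perfect and quasisimple -/

theorem perfect_M : commutator M = ⊤ := by
  set q := QuotientGroup.mk' (commutator M) with hq
  have hcom : ∀ x y : M, q x * q y = q y * q x := by
    intro x y
    have h := mul_comm (Abelianization.of x) (Abelianization.of y)
    exact h
  have hqz : q z = 1 := by
    have h1 := congrArg q (rels.comm 0 1 (by decide))
    rw [map_mul, map_mul, map_mul, hcom (gen 0)] at h1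
    have h2 : (1 : M ⧸ commutator M) * (q (gen 1) * q (gen 0)) = q z * (q (gen 1) * q (gen 0)) := by
      rw [one_mul]; exact h1
    exact (mul_right_cancel h2).symm
  have hadj : ∀ i j, m7 i j = 3 → q (gen i) = q (gen j) := by
    intro i j hij
    have h1 := congrArg q (rels.braid i j hij)
    simp only [map_mul] at h1
    rw [hcom (gen j) (gen i), mul_assoc, hcom (gen j) (gen i), mul_assoc] at h1
    exact mul_right_cancel (mul_left_cancel h1)
  have hall := adj_trans (fun i j => q (gen i) = q (gen j)) (fun i j h => h.symm)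
    (fun i j k h1 h2 => h1.trans h2) hadj rfl
  have hsq : q (gen 0) * q (gen 0) = 1 := by rw [← map_mul, rels.sq, hqz]
  have h0 : q (gen 0) = 1 := by
    have h1 : q (prod7 gen) = q (gen 0) ^ 7 := by
      rw [map_prod7 q gen]
      unfold prod7
      simp only [← hall]
      simp only [pow_succ, pow_zero, one_mul, mul_assoc]
    have h2 : q (prod7 gen) ^ 9 = 1 := by rw [← map_pow, rels.cox, map_one]
    rw [h1, ← pow_mul, show 7 * 9 = 2 * 31 + 1 from rfl, pow_succ, pow_mul, pow_two, hsq, one_pow, one_mul] at h2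
    exact h2
  have hker : q.ker = ⊤ := by
    rw [eq_top_iff, ← closure_gen, Subgroup.closure_le]
    rintro _ ⟨i, rfl⟩
    show q (gen i) = 1
    rw [← hall i, h0]
  rwa [QuotientGroup.ker_mk'] at hker

theorem center_eq : Subgroup.center M = Subgroup.zpowers z := by
  ext x
  rw [mem_zpowers z_sq, Subgroup.mem_center_iff]
  constructor
  · exact center_M
  · rintro (rfl | rfl) g
    · rw [mul_one, one_mul]
    · exact (z_comm g).symm

/-- **the double cover is quasisimple** -/
theorem quasi_M : IsQuasisimple M := by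
  refine ⟨⟨perfect_M⟩, ?_⟩
  obtain ⟨π, -, E⟩ := exists_pi
  have hk : π.ker = Subgroup.center M := by
    rw [center_eq]
    ext x
    rw [mem_zpowers z_sq, MonoidHom.mem_ker]
    constructor
    · exact E.ker x
    · rintro (rfl | rfl)
      · exact map_one π
      · exact E.map_z
  have := simple_S
  have e : (M ⧸ Subgroup.center M) ≃* S :=
    (QuotientGroup.quotientMulEquivOfEq hk.symm).trans (QuotientGroup.quotientKerEquivOfSurjective π E.surj)
  exact e.isSimpleGroup

end Cfsg.Agent.KFacts.Co3.AutM
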