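import Cfsg.Agent.KFacts.Co3.Syl

/-!
# Every automorphism of the third Conway group is inner
-/

set_option autoImplicit false
set_option Elab.async false

namespace Cfsg.Agent.KFacts.Co3.Out

open Subgroup Cfsg Cfsg.Agent.SporRec.TwoSp6.Mat Cfsg.Agent.SporRec.TwoSp6.Model Cfsg.Agent.SporRec.TwoSp6.Order
  Cfsg.Agent.SporRec.Co3.Ident Cfsg.Agent.SporRec.Co3.Chain Cfsg.Agent.SporRec.TwoSp6.Lift
  Cfsg.Agent.SporRec.TwoSp6.EFacts Cfsg.Agent.SporRec.TwoSp6.Conj
  Cfsg.Agent.SporRec.Co3DC.EAct Cfsg.Agent.KFacts.Co3.AutM Cfsg.Agent.KFacts.Co3.Cent Cfsg.Agent.KFacts.Co3.Syl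

/-- the elements of `L36` commuting with `x, k` are in `⟨z, b⟩` -/
noncomputable def chkL : Bool :=
  L36.all fun w => !(commC (wN w) [xW, kW]) ||
    (Nat.beq (wN w) (EC.getD 0 0) || Nat.beq (wN w) (EC.getD 1 0) || Nat.beq (wN w) (EC.getD 2 0) ||
      Nat.beq (wN w) (EC.getD 3 0))

theorem chkL_eq : chkL = true := by decide +kernel

/-- **`C_M(b, y, x, k) = ⟨z, b⟩`** -/
theorem cent_D {m : M} (hb : m * v (ew 2) = v (ew 2) * m) (hy : m * v yW = v yW * m)
    (hx : m * v xW = v xW * m) (hk : m * v kW = v kW * m) : ∃ i < 4, m = v (ew i) := by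
  obtain ⟨w, hw, rfl⟩ := exists_L36 hb hy
  have h1 := List.all_eq_true.1 chkL_eq w hw
  have h2 : commC (wN w) [xW, kW] = true := by
    unfold commC
    rw [List.all_eq_true]
    intro u hu
    rw [← cd_wv, ← cd_wv, ← cd_mul, ← cd_mul]
    have h3 : v w * v u = v u * v w := by
      rcases List.mem_cons.1 hu with rfl | hu
      · exact hx
      · rcases List.mem_cons.1 hu with rfl | hu
        · exact hk
        · exact absurd hu (by simp)
    rw [h3]
    exact Nat.beq_refl _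
  rw [h2] at h1
  simp only [Bool.not_true, Bool.false_or, Bool.or_eq_true] at h1
  have key : ∀ i < 16, Nat.beq (wN w) (EC.getD i 0) = true → v w = v (ew i) := by
    intro i hi h
    rw [← cd_inj, cd_ew i hi, cd_wv]
    exact Nat.eq_of_beq_eq_true h
  rcases h1 with ((h | h) | h) | h
  · exact ⟨0, by norm_num, key 0 (by norm_num) h⟩
  · exact ⟨1, by norm_num, key 1 (by norm_num) h⟩
  · exact ⟨2, by norm_num, key 2 (by norm_num) h⟩
  · exact ⟨3, by norm_num, key 3 (by norm_num) h⟩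

/-- two elements with the same conjugation -/
theorem comm_of {w w' a b : G3} (h : a * w = w * b) (h' : a * w' = w' * b) : (w' * w⁻¹) * a = a * (w' * w⁻¹) := by
  have h1 : w⁻¹ * a = b * w⁻¹ := by
    rw [inv_mul_eq_iff_eq_mul, ← mul_assoc, ← h, mul_inv_cancel_right]
  rw [mul_assoc, h1, ← mul_assoc, ← h', mul_assoc]

theorem aut_cases {β : G3 ≃* G3} (h : ∀ m, β (phi0 m) = phi0 m) : β W0 = W0 ∨ β W0 = Z * W0 * Z := by
  have R := wrel0
  have hz := R.hz
  have hB := R.hB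
  have hS := R.hS
  have hm : ∀ {p q : M}, phi0 p * W0 = W0 * phi0 q → phi0 p * β W0 = β W0 * phi0 q := by
    intro p q hpq
    have h1 := congrArg β hpq
    rwa [map_mul, map_mul, h, h] at h1
  have c1 := comm_of hz (hm hz)
  rw [phi0_z] at c1
  obtain ⟨m, e⟩ := exists_of_comm c1
  have hc : ∀ {p q : M}, phi0 p * W0 = W0 * phi0 q → m * p = p * m := by
    intro p q hpq
    have h1 := comm_of hpq (hm hpq)
    rw [e] at h1
    apply phi0_inj
    rw [map_mul, map_mul]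
    exact h1
  have hw : β W0 = phi0 m * W0 := by rw [← e, inv_mul_cancel_right]
  have hS' : phi0 (v sW) * β W0 = (β W0)⁻¹ * phi0 (v sW) := by
    have h1 := congrArg β hS
    rw [map_mul, map_mul, h, map_inv] at h1
    exact h1
  -- abbreviations
  have hz2 : phi0 z * phi0 z = 1 := by rw [← map_mul, z_sq, map_one]
  have hb2 : phi0 (v (ew 2)) * phi0 (v (ew 2)) = 1 := by
    have := ee_sq phi0 (i := 2) (by norm_num)
    exact this
  have hz' : phi0 z * W0 = W0 * phi0 (v (ew 2)) := hz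
  have hzc : ∀ p : M, phi0 z * phi0 p = phi0 p * phi0 z := fun p => by rw [← map_mul, z_comm, map_mul]
  have hbs : phi0 (v sW) * phi0 (v (ew 2)) = phi0 z * phi0 (v (ew 2)) * phi0 (v sW) := by
    obtain ⟨-, -, -, h1, -, -⟩ := chk_spec chks
    have h2 : v (ew 3) = z * v (ew 2) := by
      rw [← ew_one, ew_mul (by norm_num) (by norm_num)]; rfl
    rw [h2] at h1
    have h3 : v (ew 2) * v sW = v sW * (z * v (ew 2)) := by
      rw [← h1]; group
    have h4 := congrArg phi0 h3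
    rw [map_mul, map_mul, map_mul] at h4
    -- b s = s z b
    calc phi0 (v sW) * phi0 (v (ew 2))
        = phi0 z * phi0 z * (phi0 (v sW) * phi0 (v (ew 2))) := by rw [hz2, one_mul]
      _ = phi0 z * (phi0 (v sW) * (phi0 z * phi0 (v (ew 2)))) := by
          rw [mul_assoc, ← mul_assoc (phi0 z) (phi0 (v sW)), hzc (v sW)]; simp only [mul_assoc]
      _ = phi0 z * phi0 (v (ew 2)) * phi0 (v sW) := by rw [← h4, mul_assoc]
  have hSw : phi0 (v sW) * W0 = W0⁻¹ * phi0 (v sW) := hS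
  obtain ⟨i, hi, rfl⟩ := cent_D (hc hB) (hc R.hY) (hc R.hX) (hc R.hK)
  interval_cases i
  · left
    rw [hw, ew_zero, map_one, one_mul]
  · exfalso
    rw [ew_one] at hw
    rw [hw, ← mul_assoc, ← hzc, mul_assoc, hSw, ← mul_assoc, mul_inv_rev, ← map_inv,
      show z⁻¹ = z from inv_eq_of_mul_eq_one_left z_sq] at hS'
    have h1 := mul_right_cancel hS'
    -- φz w⁻¹ = w⁻¹ φz
    have h2 : W0 * phi0 z = phi0 z * W0 := by
      calc W0 * phi0 z = W0 * (phi0 z * W0⁻¹) * W0 := by group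
        _ = W0 * (W0⁻¹ * phi0 z) * W0 := by rw [h1]
        _ = phi0 z * W0 := by group
    rw [hz'] at h2
    have h3 := phi0_inj (mul_left_cancel h2)
    rw [← ew_one] at h3
    exact absurd (ew_inj (by norm_num) (by norm_num) h3) (by norm_num)
  · right
    rw [hw, ← phi0_z, hz', mul_assoc, ← hzc, ← map_mul]
    exact hB
  · exfalso
    have h2 : v (ew 3) = z * v (ew 2) := by
      rw [← ew_one, ew_mul (by norm_num) (by norm_num)]; rfl
    rw [h2, map_mul] at hw
    have hL : phi0 (v sW) * β W0 = phi0 (v (ew 2)) * W0⁻¹ * phi0 (v sW) := by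
      calc phi0 (v sW) * β W0 = (phi0 (v sW) * phi0 z) * phi0 (v (ew 2)) * W0 := by rw [hw]; simp only [mul_assoc]
        _ = (phi0 z * phi0 (v sW)) * phi0 (v (ew 2)) * W0 := by rw [hzc]
        _ = phi0 z * (phi0 (v sW) * phi0 (v (ew 2))) * W0 := by simp only [mul_assoc]
        _ = (phi0 z * phi0 z) * phi0 (v (ew 2)) * (phi0 (v sW) * W0) := by rw [hbs]; simp only [mul_assoc]
        _ = phi0 (v (ew 2)) * W0⁻¹ * phi0 (v sW) := by rw [hz2, one_mul, hSw]; simp only [mul_assoc]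
    have hR : (β W0)⁻¹ * phi0 (v sW) = W0⁻¹ * (phi0 z * phi0 (v (ew 2))) * phi0 (v sW) := by
      rw [hw, mul_inv_rev, mul_inv_rev, inv_eq_of_mul_eq_one_left hz2, inv_eq_of_mul_eq_one_left hb2, ← hzc]
    rw [hL, hR] at hS'
    have h3 := mul_right_cancel hS'
    have h4 : W0 * phi0 (v (ew 2)) = phi0 z * phi0 (v (ew 2)) * W0 := by
      calc W0 * phi0 (v (ew 2)) = W0 * (phi0 (v (ew 2)) * W0⁻¹) * W0 := by group
        _ = W0 * (W0⁻¹ * (phi0 z * phi0 (v (ew 2)))) * W0 := by rw [h3]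
        _ = phi0 z * phi0 (v (ew 2)) * W0 := by group
    rw [← hz', mul_assoc] at h4
    have h5 := mul_left_cancel h4
    have h6 : (1 : G3) * W0 = phi0 (v (ew 2)) * W0 := by rw [one_mul]; exact h5
    have h7 := mul_right_cancel h6
    rw [← map_one phi0, ← ew_zero] at h7
    exact absurd (ew_inj (by norm_num) (by norm_num) (phi0_inj h7)) (by norm_num)

/-- an automorphism trivial on `C(Z)` is inner -/
theorem aut_fix {β : G3 ≃* G3} (h : ∀ m, β (phi0 m) = phi0 m) : ∃ g, ∀ x, β x = g * x * g⁻¹ := by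
  have hext : ∀ f f' : G3 →* G3, (∀ m, f (phi0 m) = f' (phi0 m)) → f W0 = f' W0 → ∀ x, f x = f' x := by
    intro f f' h1 h2 x
    have : f = f' := by
      apply MonoidHom.eq_of_eqOn_dense closure_phi0
      rintro _ (⟨m, rfl⟩ | hx)
      · exact h1 m
      · rw [Set.mem_singleton_iff.1 hx]; exact h2
    rw [this]
  rcases aut_cases h with h1 | h1
  · refine ⟨1, fun x => ?_⟩
    rw [one_mul, inv_one, mul_one]
    exact hext (β : G3 →* G3) (MonoidHom.id G3) h h1 x
  · refine ⟨Z, fun x => ?_⟩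
    have hZ : Z⁻¹ = Z := inv_eq_of_mul_eq_one_left Z_sq
    refine hext (β : G3 →* G3) (MulAut.conj Z : G3 ≃* G3).toMonoidHom (fun m => ?_) ?_ x
    · show β (phi0 m) = Z * phi0 m * Z⁻¹
      rw [h, ← phi0_z, ← map_mul, z_comm, map_mul, mul_inv_cancel_right]
    · show β W0 = Z * W0 * Z⁻¹
      rw [h1, hZ]

/-- an automorphism fixing `Z` is inner -/
theorem aut_z {β : G3 ≃* G3} (h : β Z = Z) : ∃ g, ∀ x, β x = g * x * g⁻¹ := by
  have fM : Finite M := Nat.finite_of_card_ne_zero (by rw [card_M]; norm_num)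
  have hmem : ∀ m : M, β (phi0 m) ∈ phi0.range := by
    intro m
    rw [← centralizer_Z, mem_centralizer_singleton_iff]
    conv_lhs => rw [← h]
    conv_rhs => rw [← h]
    rw [← map_mul, ← map_mul, ← phi0_z, ← map_mul, ← map_mul, z_comm]
  let e : M ≃* phi0.range := MonoidHom.ofInjective phi0_inj
  let f : M →* phi0.range := ((β : G3 →* G3).comp phi0).codRestrict phi0.range hmem
  let γ : M →* M := (e.symm : phi0.range →* M).comp f
  have hγ : ∀ m, phi0 (γ m) = β (phi0 m) := by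
    intro m
    have h1 : e (γ m) = f m := e.apply_symm_apply (f m)
    exact congrArg Subtype.val h1
  have hinj : Function.Injective γ := by
    intro p q hpq
    have h1 := congrArg phi0 hpq
    rw [hγ, hγ] at h1
    exact phi0_inj (β.injective h1)
  obtain ⟨g, hg⟩ := aut_M (MulEquiv.ofBijective γ (Finite.injective_iff_bijective.1 hinj))
  have hg' : ∀ m, β (phi0 m) = phi0 g * phi0 m * (phi0 g)⁻¹ := by
    intro m
    rw [← hγ, ← map_mul, ← map_inv, ← map_mul]
    exact congrArg phi0 (hg m)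
  obtain ⟨k, hk⟩ := aut_fix (β := β.trans (MulAut.conj (phi0 g)⁻¹)) (by
    intro m
    show (phi0 g)⁻¹ * β (phi0 m) * (phi0 g)⁻¹⁻¹ = phi0 m
    rw [hg']; group)
  refine ⟨phi0 g * k, fun x => ?_⟩
  have h1 : (phi0 g)⁻¹ * β x * (phi0 g)⁻¹⁻¹ = k * x * k⁻¹ := hk x
  calc β x = phi0 g * ((phi0 g)⁻¹ * β x * (phi0 g)⁻¹⁻¹) * (phi0 g)⁻¹ := by group
    _ = phi0 g * k * x * (phi0 g * k)⁻¹ := by rw [h1]; group

/-- **Every automorphism of the third Conway group is inner.** -/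
theorem aut (α : G3 ≃* G3) : ∃ g, ∀ x, α x = g * x * g⁻¹ := by
  have := finite_G3
  have : Fact (Nat.Prime 2) := ⟨Nat.prime_two⟩
  obtain ⟨S, hZ, hc, hS⟩ := syl
  obtain ⟨g, hg⟩ := MulAction.exists_smul_eq G3 S ((α : MulAut G3) • S)
  have hmem : ∀ x, x ∈ S → g⁻¹ * α x * g ∈ S := by
    intro x hx
    have h1 : α x ∈ ((α : MulAut G3) • S : Sylow 2 G3) := ⟨x, hx, rfl⟩
    rw [← hg] at h1
    obtain ⟨y, hy, hyx⟩ := h1
    have h2 : g * y * g⁻¹ = α x := hyx
    rw [← h2]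
    have h3 : g⁻¹ * (g * y * g⁻¹) * g = y := by group
    rw [h3]; exact hy
  have hmem' : ∀ x, x ∈ S → ∃ y ∈ S, g⁻¹ * α y * g = x := by
    intro x hx
    have h1 : g * x * g⁻¹ ∈ (g • S : Sylow 2 G3) := ⟨x, hx, rfl⟩
    rw [hg] at h1
    obtain ⟨y, hy, hyx⟩ := h1
    refine ⟨y, hy, ?_⟩
    have h2 : α y = g * x * g⁻¹ := hyx
    rw [h2]; group
  have h1 : g⁻¹ * α Z * g = Z := by
    rcases hS _ (hmem Z hZ) (by
      intro x hx
      obtain ⟨y, hy, rfl⟩ := hmem' x hx
      have h2 := congrArg α (hc y hy)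
      rw [map_mul, map_mul] at h2
      calc g⁻¹ * α y * g * (g⁻¹ * α Z * g) = g⁻¹ * (α y * α Z) * g := by group
        _ = g⁻¹ * (α Z * α y) * g := by rw [h2]
        _ = g⁻¹ * α Z * g * (g⁻¹ * α y * g) := by group) with h2 | h2
    · exfalso
      apply Z_ne
      apply α.injective
      rw [map_one]
      calc α Z = g * (g⁻¹ * α Z * g) * g⁻¹ := by group
        _ = 1 := by rw [h2]; group
    · exact h2
  obtain ⟨k, hk⟩ := aut_z (β := α.trans (MulAut.conj g⁻¹)) (by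
    show g⁻¹ * α Z * g⁻¹⁻¹ = Z
    rw [inv_inv]; exact h1)
  refine ⟨g * k, fun x => ?_⟩
  have h2 : g⁻¹ * α x * g⁻¹⁻¹ = k * x * k⁻¹ := hk x
  calc α x = g * (g⁻¹ * α x * g⁻¹⁻¹) * g⁻¹ := by group
    _ = g * k * x * (g * k)⁻¹ := by rw [h2]; group

theorem range_conj : (MulAut.conj : G3 →* MulAut G3).range = ⊤ := by
  rw [eq_top_iff]
  intro α _
  obtain ⟨g, hg⟩ := aut α
  refine ⟨g, ?_⟩
  ext x
  rw [MulAut.conj_apply, hg]

end Cfsg.Agent.KFacts.Co3.Out
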