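import Cfsg.Agent.KFacts.Co3.Out
import Cfsg.Agent.SporRec.Co3.Model
import Cfsg.Agent.OddHalf.D8.SheetMap

/-!
# The sheet of the third Conway group (ODD half, node D8, type (C))

`Facts z`: `z` is an involution of `K`, `Sheet.Basic z C_K(z)`, `C_K(z)` is quasisimple with centre `⟨z⟩` and all its
automorphisms are inner, `|C_K(z)| = 2903040` (`C_K(z) = 2·Sp₆(2)`), all automorphisms of `K` are inner.

* `exists_facts : Spor.IsoCo3 K → ∃ z, Facts z`.
-/

set_option autoImplicit false
set_option Elab.async false

namespace Cfsg.Agent.KFacts.Co3.Sheet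

open Subgroup Cfsg Cfsg.Agent.SporRec.TwoSp6.Model Cfsg.Agent.SporRec.TwoSp6.Order Cfsg.Agent.SporRec.Co3.Ident
  Cfsg.Agent.SporRec.Co3.Chain Cfsg.Agent.SporRec.Co3.Model Cfsg.Agent.KFacts.Co3.AutM
  Cfsg.Agent.KFacts.Co3.Cent Cfsg.Agent.KFacts.Co3.Syl Cfsg.Agent.OddHalf Cfsg.Agent.OddHalf.D8.Sheet
  Cfsg.Agent.OddHalf.D8.SheetMap

/-- the facts about the third Conway group -/
structure Facts {K : Type*} [Group K] (z : K) : Prop where
  basic : Basic z (centralizer ({z} : Set K))
  /-- all automorphisms of `K` are inner -/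
  inner : ∀ α : MulAut K, ∃ k : K, α = MulAut.conj k
  card : Nat.card (centralizer ({z} : Set K)) = 2903040
  quasi : IsQuasisimple (centralizer ({z} : Set K))
  /-- all automorphisms of `C_K(z)` are inner -/
  innerP : ∀ β : MulAut (centralizer ({z} : Set K)), ∃ p, β = MulAut.conj p
  center : ∀ x ∈ centralizer ({z} : Set K), (∀ y ∈ centralizer ({z} : Set K), y * x = x * y) → x = 1 ∨ x = z

section Transport

variable {K : Type*} [Group K] (e : G3 ≃* K)

include e in
theorem inner_of (α : MulAut K) : ∃ k : K, α = MulAut.conj k := by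
  obtain ⟨g, hg⟩ := Out.aut (((e.trans α).trans e.symm) : G3 ≃* G3)
  refine ⟨e g, ?_⟩
  ext x
  have h1 := hg (e.symm x)
  have h2 : e.symm (α (e (e.symm x))) = g * e.symm x * g⁻¹ := h1
  rw [MulEquiv.apply_symm_apply] at h2
  have h3 := congrArg e h2
  rw [MulEquiv.apply_symm_apply, map_mul, map_mul, map_inv, MulEquiv.apply_symm_apply] at h3
  rw [h3, MulAut.conj_apply]

/-- the embedding of the model of `2·Sp₆(2)` -/
noncomputable def psi : M →* K := (e : G3 →* K).comp phi0

theorem psi_inj : Function.Injective (psi e) := fun _ _ h => phi0_inj (e.injective h)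

theorem psi_z : psi e z = e Z := by
  show e (phi0 z) = e Z
  rw [phi0_z]

theorem range_psi : (psi e).range = centralizer ({e Z} : Set K) := by
  rw [centralizer_map e Z, centralizer_Z]
  exact MonoidHom.range_comp _ _

theorem exists_psi {x : K} (hx : x ∈ centralizer ({e Z} : Set K)) : ∃ m, psi e m = x := by
  rw [← range_psi] at hx
  exact hx

theorem psi_mem (m : M) : psi e m ∈ centralizer ({e Z} : Set K) := by
  rw [← range_psi]
  exact ⟨m, rfl⟩

/-- `M ≃ C_K(z)` -/
noncomputable def eqv : M ≃* centralizer ({e Z} : Set K) :=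
  (MonoidHom.ofInjective (psi_inj e)).trans (MulEquiv.subgroupCongr (range_psi e))

theorem eqv_coe (m : M) : (eqv e m : K) = psi e m := rfl

theorem quasi_of {A B : Type*} [Group A] [Group B] (f : A ≃* B) (h : IsQuasisimple A) : IsQuasisimple B := by
  obtain ⟨h1, h2⟩ := h
  refine ⟨Group.IsPerfect.ofSurjective (f := (f : A →* B)) f.surjective, ?_⟩
  have hmap : (Subgroup.center A).map (f : A →* B) = Subgroup.center B := by
    ext x
    constructor
    · rintro ⟨y, hy, rfl⟩
      rw [mem_center_iff]
      intro g
      obtain ⟨a, rfl⟩ := f.surjective g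
      show f a * f y = f y * f a
      rw [← map_mul, ← map_mul, mem_center_iff.1 hy a]
    · intro hx
      obtain ⟨y, rfl⟩ := f.surjective x
      refine ⟨y, ?_, rfl⟩
      show y ∈ Subgroup.center A
      rw [mem_center_iff]
      intro g
      apply f.injective
      rw [map_mul, map_mul]
      exact mem_center_iff.1 hx (f g)
  exact (QuotientGroup.congr _ _ f hmap).symm.isSimpleGroup

theorem facts : Facts (e Z) where
  basic :=
    { zz := by rw [← map_mul, Z_sq, map_one]
      z1 := fun h => Z_ne (e.injective (by rw [h, map_one]))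
      syl := syl_map e syl
      zP := mem_centralizer_singleton_iff.2 rfl
      cen := fun x hx => mem_centralizer_singleton_iff.1 hx
      perf := by
        have := (quasi_of (eqv e) quasi_M).1
        exact Subgroup.isPerfect_iff.1 this
      der := ⟨0, le_rfl⟩
      out := by
        have h : (MulAut.conj : K →* MulAut K).range = ⊤ := by
          rw [eq_top_iff]
          intro α _
          obtain ⟨k, hk⟩ := inner_of e α
          exact ⟨k, hk.symm⟩
        rw [h, Subgroup.index_top]
        norm_num
      schreier := by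
        refine ⟨0, ?_⟩
        intro α _
        obtain ⟨k, hk⟩ := inner_of e α
        exact ⟨k, hk.symm⟩
      sylAut := fun S _ α _ _ => inner_of e α }
  inner := inner_of e
  card := by
    rw [← card_M]
    exact (Nat.card_congr (eqv e).toEquiv).symm
  quasi := quasi_of (eqv e) quasi_M
  innerP := by
    intro β
    obtain ⟨g, hg⟩ := aut_M (((eqv e).trans β).trans (eqv e).symm)
    refine ⟨eqv e g, ?_⟩
    ext1 x
    have h2 : (eqv e).symm (β (eqv e ((eqv e).symm x))) = g * (eqv e).symm x * g⁻¹ := hg _
    rw [MulEquiv.apply_symm_apply] at h2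
    have h3 := congrArg (eqv e) h2
    rw [MulEquiv.apply_symm_apply, map_mul, map_mul, map_inv, MulEquiv.apply_symm_apply] at h3
    rw [h3, MulAut.conj_apply]
  center := by
    intro x hx h
    obtain ⟨m, rfl⟩ := exists_psi e hx
    rcases center_M (x := m) (by
      intro y
      apply psi_inj e
      rw [map_mul, map_mul]
      exact h _ (psi_mem e y)) with rfl | rfl
    · left; exact map_one _
    · right; exact psi_z e

end Transport

/-- **The sheet of the third Conway group.** -/
theorem exists_facts {K : Type*} [Group K] (h : Spor.IsoCo3 K) : ∃ z : K, Facts z := by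
  obtain ⟨e⟩ := h
  exact ⟨_, facts (equivCo3.trans e.symm)⟩

end Cfsg.Agent.KFacts.Co3.Sheet
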