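import Cfsg.Agent.KFacts.Co3.AutM
import Cfsg.Agent.KFacts.Co3.Cent
import Cfsg.Agent.SporRec.Co3DC.EAct

/-!
# A Sylow 2-subgroup of the third Conway group with centre of order two
-/

set_option autoImplicit false
set_option Elab.async false

namespace Cfsg.Agent.KFacts.Co3.Syl

open Subgroup Cfsg Cfsg.Agent.SporRec.TwoSp6.Model Cfsg.Agent.SporRec.TwoSp6.Order Cfsg.Agent.SporRec.Co3.Ident
  Cfsg.Agent.SporRec.Co3.Chain Cfsg.Agent.SporRec.TwoSp6.Lift Cfsg.Agent.SporRec.TwoSp6.EFacts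
  Cfsg.Agent.SporRec.Co3DC.EAct Cfsg.Agent.KFacts.Co3.AutM Cfsg.Agent.KFacts.Co3.Cent

/-- `φ₀` is injective -/
theorem phi0_inj : Function.Injective phi0 := by
  rw [← MonoidHom.ker_eq_bot_iff]
  have fM : Finite M := Nat.finite_of_card_ne_zero (by rw [card_M]; norm_num)
  obtain ⟨π, -, E⟩ := exists_pi
  have := simple_S
  have hn : (phi0.ker.map π).Normal := Subgroup.Normal.map inferInstance π E.surj
  have hz : z ∉ phi0.ker := by
    intro h
    rw [MonoidHom.mem_ker, phi0_z] at h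
    exact Z_ne h
  rcases hn.eq_bot_or_eq_top with h | h
  · rw [eq_bot_iff]
    intro x hx
    have h1 : π x ∈ phi0.ker.map π := ⟨x, hx, rfl⟩
    rw [h, mem_bot] at h1
    rcases E.ker x h1 with h2 | h2
    · exact h2
    · rw [h2] at hx
      exact absurd hx hz
  · exfalso
    have hall : ∀ x : M, phi0 x * phi0 x = 1 := by
      intro x
      have h1 : π x ∈ phi0.ker.map π := by rw [h]; exact mem_top _
      obtain ⟨y, hy, hyx⟩ := h1
      have hy' : phi0 y = 1 := hy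
      rcases E.eq_or hyx with h2 | h2
      · rw [h2, hy', one_mul]
      · rw [h2, map_mul, hy', mul_one, phi0_z, Z_sq]
    have h1 := hall (gen 0)
    rw [← map_mul, rels.sq, phi0_z] at h1
    exact Z_ne h1

theorem hyp : Hyp phi0 where
  inj := phi0_inj
  cent g hg := by
    rw [phi0_z] at hg
    obtain ⟨m, hm⟩ := exists_of_comm hg
    exact ⟨m, hm.symm⟩

/-- the centraliser of `Z` -/
theorem centralizer_Z : centralizer ({Z} : Set G3) = phi0.range := by
  ext x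
  rw [mem_centralizer_singleton_iff]
  constructor
  · intro h
    obtain ⟨m, hm⟩ := exists_of_comm h
    exact ⟨m, hm.symm⟩
  · rintro ⟨m, rfl⟩
    rw [← phi0_z, ← map_mul, ← map_mul, z_comm]

theorem card_Z : Nat.card (centralizer ({Z} : Set G3)) = 2903040 := by
  rw [centralizer_Z, ← card_M]
  exact (Nat.card_congr (MonoidHom.ofInjective phi0_inj).toEquiv).symm

/-! ### a 2-group -/

def P1 (l i : ℕ) : Prop := 2 ≤ i → i < 4 → 2 ≤ l ∧ l < 4
def P2 (l i : ℕ) : Prop := 4 ≤ i → i < 8 → 4 ≤ l ∧ l < 8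
def P3 (l i : ℕ) : Prop := 8 ≤ i → 8 ≤ l
def P4 (l i : ℕ) : Prop := l = 1 → i = 1
def P5 (l i : ℕ) : Prop := l = 2 → 2 ≤ i ∧ i < 4
def P6 (l i : ℕ) : Prop := l = 4 → 4 ≤ i ∧ i < 8
def P7 (l i : ℕ) : Prop := l = 8 → 8 ≤ i

instance (l i : ℕ) : Decidable (P1 l i) := by unfold P1; infer_instance
instance (l i : ℕ) : Decidable (P2 l i) := by unfold P2; infer_instance
instance (l i : ℕ) : Decidable (P3 l i) := by unfold P3; infer_instance
instance (l i : ℕ) : Decidable (P4 l i) := by unfold P4; infer_instance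
instance (l i : ℕ) : Decidable (P5 l i) := by unfold P5; infer_instance
instance (l i : ℕ) : Decidable (P6 l i) := by unfold P6; infer_instance
instance (l i : ℕ) : Decidable (P7 l i) := by unfold P7; infer_instance

def PA (l i : ℕ) : Prop := P1 l i ∧ P2 l i ∧ P3 l i ∧ P4 l i ∧ P5 l i ∧ P6 l i ∧ P7 l i

instance (l i : ℕ) : Decidable (PA l i) := by unfold PA; infer_instance

theorem lin_tri' : ∀ b < 2, ∀ c < 4, ∀ d < 8, ∀ i < 16, PA (lin 1 (2 + b) (4 + c) (8 + d) i) i := by decide +kernel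

theorem lin_tri {b c d : ℕ} (hd : d < 16) (b2 : 2 ≤ b) (b4 : b < 4) (c4 : 4 ≤ c) (c8 : c < 8) (d8 : 8 ≤ d)
    {i : ℕ} (hi : i < 16) : P1 (lin 1 b c d i) i ∧ P2 (lin 1 b c d i) i ∧ P3 (lin 1 b c d i) i ∧
    P4 (lin 1 b c d i) i ∧ P5 (lin 1 b c d i) i ∧ P6 (lin 1 b c d i) i ∧ P7 (lin 1 b c d i) i := by
  have h := lin_tri' (b - 2) (by omega) (c - 4) (by omega) (d - 8) (by omega) i hi
  rw [show 2 + (b - 2) = b by omega, show 4 + (c - 4) = c by omega, show 8 + (d - 8) = d by omega] at h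
  exact h

/-- the elements acting on `E` in the flag of the basis `z, b, e₁, e₂` -/
def U : Subgroup G3 where
  carrier := {x | ∃ b c d, Act phi0 x 1 b c d ∧ 2 ≤ b ∧ b < 4 ∧ 4 ≤ c ∧ c < 8 ∧ 8 ≤ d}
  one_mem' := ⟨2, 4, 8, Act.one phi0, by norm_num, by norm_num, by norm_num, by norm_num, by norm_num⟩
  mul_mem' := by
    rintro x y ⟨b, c, d, hx, b2, b4, c4, c8, d8⟩ ⟨b', c', d', hy, b2', b4', c4', c8', d8'⟩
    have h := fun {i : ℕ} (hi : i < 16) => lin_tri hy.hd b2' b4' c4' c8' d8' hi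
    have h1 := hx.mul hy
    rw [lin1] at h1
    exact ⟨_, _, _, h1, ((h hx.hb).1 b2 b4).1, ((h hx.hb).1 b2 b4).2, ((h hx.hc).2.1 c4 c8).1,
      ((h hx.hc).2.1 c4 c8).2, (h hx.hd).2.2.1 d8⟩
  inv_mem' := by
    rintro x ⟨b, c, d, hx, b2, b4, c4, c8, d8⟩
    have h := fun {i : ℕ} (hi : i < 16) => lin_tri hx.hd b2 b4 c4 c8 d8 hi
    obtain ⟨a', b', c', d', hy, e1, e2, e4, e8⟩ := hx.inv hyp
    have ha : a' = 1 := (h hy.ha).2.2.2.1 e1
    subst ha
    have hb := (h hy.hb).2.2.2.2.1 e2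
    have hc := (h hy.hc).2.2.2.2.2.1 e4
    have hd := (h hy.hd).2.2.2.2.2.2 e8
    exact ⟨b', c', d', hy, hb.1, hb.2, hc.1, hc.2, hd⟩

theorem lin_four' : ∀ b < 2, ∀ c < 4, ∀ d < 8, ∀ i < 16,
    lin 1 (2 + b) (4 + c) (8 + d) (lin 1 (2 + b) (4 + c) (8 + d) (lin 1 (2 + b) (4 + c) (8 + d)
      (lin 1 (2 + b) (4 + c) (8 + d) i))) = i := by decide +kernel

theorem lin_four {b c d : ℕ} (hd : d < 16) (b2 : 2 ≤ b) (b4 : b < 4) (c4 : 4 ≤ c) (c8 : c < 8) (d8 : 8 ≤ d)
    {i : ℕ} (hi : i < 16) : lin 1 b c d (lin 1 b c d (lin 1 b c d (lin 1 b c d i))) = i := by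
  have h := lin_four' (b - 2) (by omega) (c - 4) (by omega) (d - 8) (by omega) i hi
  rwa [show 2 + (b - 2) = b by omega, show 4 + (c - 4) = c by omega, show 8 + (d - 8) = d by omega] at h

theorem isPGroup_U : IsPGroup 2 U := by
  rintro ⟨x, b, c, d, hx, b2, b4, c4, c8, d8⟩
  refine ⟨3, Subtype.ext ?_⟩
  show x ^ 2 ^ 3 = 1
  have h := fun {i : ℕ} (hi : i < 16) => lin_four hx.hd b2 b4 c4 c8 d8 hi
  have key : ∀ i < 16, cj (x * x * (x * x)) (ee phi0 i) = ee phi0 i := by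
    intro i hi
    have hl : ∀ j < 16, lin 1 b c d j < 16 := fun j _ => lin_lt hx.ha hx.hb hx.hc hx.hd j
    rw [← cj_cj, ← cj_cj, ← cj_cj, hx.all hi, hx.all (hl _ hi), hx.all (hl _ (hl _ hi)),
      hx.all (hl _ (hl _ (hl _ hi))), h hi]
  obtain ⟨i, hi, e⟩ := exists_ee hyp (g := x * x * (x * x)) ⟨by norm_num, by norm_num, by norm_num, by norm_num,
    key 1 (by norm_num), key 2 (by norm_num), key 4 (by norm_num), key 8 (by norm_num)⟩
  have e8 : x ^ 2 ^ 3 = (x * x * (x * x)) * (x * x * (x * x)) := by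
    simp only [show (2 : ℕ) ^ 3 = 8 from rfl, pow_succ, pow_zero, one_mul, mul_assoc]
  rw [e8, e, ee_sq phi0 hi]

theorem U_le : U ≤ centralizer ({Z} : Set G3) := by
  rintro x ⟨b, c, d, hx, -⟩
  rw [mem_centralizer_singleton_iff]
  have h := comm_of_cj hx.h1
  rwa [ee_one, phi0_z] at h

theorem ee_mem {i : ℕ} (hi : i < 16) : ee phi0 i ∈ U :=
  ⟨2, 4, 8, Act.of_ee phi0 hi, by norm_num, by norm_num, by norm_num, by norm_num, by norm_num⟩

def t1W : List ℕ := [0,3,1,4,3]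
def t2W : List ℕ := [2,4,5,4,3,1,2,3,4,5,6,5,4,3,1,2,3,4,5]

theorem chk0 : chk ([0], 3, 4, 8) = true := by decide +kernel
theorem chk1 : chk (t1W, 2, 4, 12) = true := by decide +kernel
theorem chk2 : chk (t2W, 2, 6, 9) = true := by decide +kernel

theorem mem0 : phi0 (v [0]) ∈ U :=
  ⟨3, 4, 8, act_of_chk phi0 chk0, by norm_num, by norm_num, by norm_num, by norm_num, by norm_num⟩
theorem mem1 : phi0 (v t1W) ∈ U :=
  ⟨2, 4, 12, act_of_chk phi0 chk1, by norm_num, by norm_num, by norm_num, by norm_num, by norm_num⟩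
theorem mem2 : phi0 (v t2W) ∈ U :=
  ⟨2, 6, 9, act_of_chk phi0 chk2, by norm_num, by norm_num, by norm_num, by norm_num, by norm_num⟩

theorem fix_lin : ∀ i < 16, lin 1 3 4 8 i = i → lin 1 2 4 12 i = i → lin 1 2 6 9 i = i → i = 0 ∨ i = 1 := by
  decide

/-- `C(U) = {1, Z}` -/
theorem cent_U {y : G3} (h : ∀ x ∈ U, x * y = y * x) : y = 1 ∨ y = Z := by
  have h1 : ∀ i < 16, cj y (ee phi0 i) = ee phi0 i := fun i hi => cj_of_comm (h _ (ee_mem hi)).symm
  obtain ⟨i, hi, rfl⟩ := exists_ee hyp (g := y) ⟨by norm_num, by norm_num, by norm_num, by norm_num,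
    h1 1 (by norm_num), h1 2 (by norm_num), h1 4 (by norm_num), h1 8 (by norm_num)⟩
  have h2 : ∀ {x : G3} {a b c d : ℕ}, Act phi0 x a b c d → x ∈ U → lin a b c d i = i := by
    intro x a b c d hx hxU
    have h3 := hx.all hi
    rw [cj_of_comm (h x hxU)] at h3
    exact (ee_inj hyp hi (lin_lt hx.ha hx.hb hx.hc hx.hd i) h3).symm
  rcases fix_lin i hi (h2 (act_of_chk phi0 chk0) mem0) (h2 (act_of_chk phi0 chk1) mem1)
    (h2 (act_of_chk phi0 chk2) mem2) with rfl | rfl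
  · left; exact ee_zero phi0
  · right; rw [ee_one, phi0_z]

/-! ### the Sylow subgroup -/

/-- a 2-subgroup of a subgroup of odd index is contained in a Sylow subgroup which is contained in the subgroup -/
theorem exists_sylow {K : Type*} [Group K] [Finite K] (C V : Subgroup K) (hodd : Odd C.index) (hV : IsPGroup 2 V)
    (hVC : V ≤ C) : ∃ S : Sylow 2 K, V ≤ S ∧ (S : Subgroup K) ≤ C := by
  have : Fact (Nat.Prime 2) := ⟨Nat.prime_two⟩
  have h1 : IsPGroup 2 (V.subgroupOf C) :=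
    hV.comap_of_injective C.subtype C.subtype_injective
  obtain ⟨T, hT⟩ := h1.exists_le_sylow
  have hcT : Nat.card ((T : Subgroup C).map C.subtype) = 2 ^ (Nat.card C).factorization 2 := by
    rw [Nat.card_congr ((T : Subgroup C).equivMapOfInjective C.subtype C.subtype_injective).symm.toEquiv]
    exact T.card_eq_multiplicity
  have hf : (Nat.card K).factorization 2 = (Nat.card C).factorization 2 := by
    rw [← C.card_mul_index, Nat.factorization_mul Nat.card_pos.ne' C.index_ne_zero_of_finite,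
      Finsupp.add_apply]
    have : C.index.factorization 2 = 0 := by
      apply Nat.factorization_eq_zero_of_not_dvd
      intro h2
      exact (Nat.not_even_iff_odd.2 hodd) (even_iff_two_dvd.2 h2)
    omega
  refine ⟨Sylow.ofCard ((T : Subgroup C).map C.subtype) (by rw [hcT, hf]), ?_, ?_⟩
  · intro x hx
    exact ⟨⟨x, hVC hx⟩, hT hx, rfl⟩
  · rintro _ ⟨x, -, rfl⟩
    exact x.2

theorem finite_G3 : Finite G3 := Nat.finite_of_card_ne_zero (by rw [isCo3_G3.2]; norm_num)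

theorem odd_index : Odd (centralizer ({Z} : Set G3)).index := by
  have h := (centralizer ({Z} : Set G3)).card_mul_index
  rw [card_Z, isCo3_G3.2] at h
  have h1 : (centralizer ({Z} : Set G3)).index = 170775 := by omega
  rw [h1]
  decide

/-- **the Sylow 2-subgroup** -/
theorem syl : ∃ S : Sylow 2 G3, Z ∈ S ∧ (∀ x ∈ S, x * Z = Z * x) ∧
    ∀ y ∈ S, (∀ x ∈ S, x * y = y * x) → y = 1 ∨ y = Z := by
  have := finite_G3
  obtain ⟨S, h1, h2⟩ := exists_sylow _ U odd_index isPGroup_U U_le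
  refine ⟨S, ?_, ?_, ?_⟩
  · have h3 := h1 (ee_mem (i := 1) (by norm_num))
    rwa [ee_one, phi0_z] at h3
  · intro x hx
    exact mem_centralizer_singleton_iff.1 (h2 hx)
  · intro y _ h
    exact cent_U fun x hx => h x (h1 hx)

end Cfsg.Agent.KFacts.Co3.Syl
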